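import Mathlib

/-! # Hensel's lemma with a non-unit derivative -/

set_option autoImplicit false

universe u

open Polynomial

namespace Groth.Agent.HenselNewton

variable {C : Type u} [CommRing C] (I : Ideal C) [HenselianRing C I]

/-- A root of `s + Y + Y² q(Y)` for `s ∈ I`. -/
theorem exists_root_quadratic_tail (q : C[X]) {s : C} (hs : s ∈ I) :
    ∃ y : C, y ∈ I ∧ s + y + y ^ 2 * q.eval y = 0 := by
  nontriviality C
  set d := q.natDegree with hd
  let T : C[X] := ∑ i ∈ Finset.range (d + 1), Polynomial.C (q.coeff i * (-s) ^ i) * X ^ (d - i)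
  let W : C[X] := X ^ (d + 2) + (Polynomial.C s * T - X ^ (d + 1))
  have hdeg : (Polynomial.C s * T - X ^ (d + 1)).degree < ((d + 2 : ℕ) : WithBot ℕ) := by
    refine lt_of_le_of_lt (degree_sub_le _ _) (max_lt ?_ ?_)
    · refine lt_of_le_of_lt ((degree_mul_le _ _).trans (add_le_add degree_C_le le_rfl)) ?_
      rw [zero_add]
      refine lt_of_le_of_lt ((degree_sum_le _ _).trans (Finset.sup_le fun i _ => ?_))
        (show ((d : ℕ) : WithBot ℕ) < ((d + 2 : ℕ) : WithBot ℕ) from WithBot.coe_lt_coe.mpr (by simp))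
      exact (degree_C_mul_X_pow_le _ _).trans (WithBot.coe_le_coe.mpr (Nat.sub_le _ _))
    · rw [degree_X_pow]
      exact WithBot.coe_lt_coe.mpr (by simp)
  have hmon : W.Monic := monic_X_pow_add hdeg
  have h1 : W.eval 1 ∈ I := by
    simp only [W, eval_add, eval_sub, eval_mul, eval_C, eval_pow, eval_X, one_pow]
    simpa using I.mul_mem_right _ hs
  have h2 : IsUnit (Ideal.Quotient.mk I (W.derivative.eval 1)) := by
    have : Ideal.Quotient.mk I (W.derivative.eval 1) = 1 := by
      simp [W, derivative_X_pow, Ideal.Quotient.eq_zero_iff_mem.mpr hs]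
    rw [this]
    exact isUnit_one
  obtain ⟨w, hw, hw1⟩ := HenselianRing.is_henselian W hmon 1 h1 h2
  have hwu : IsUnit w := by
    have hj : w - 1 ∈ (⊥ : Ideal C).jacobson := HenselianRing.jac hw1
    rw [Ideal.mem_jacobson_bot] at hj
    simpa using hj 1
  obtain ⟨v, rfl⟩ := hwu
  refine ⟨-s * ↑v⁻¹, I.mul_mem_right _ (I.neg_mem hs), ?_⟩
  have hvv : (↑v : C) * ↑v⁻¹ = 1 := Units.mul_inv v
  have hT : T.eval (↑v : C) = (↑v : C) ^ d * q.eval (-s * ↑v⁻¹) := by
    simp only [T, eval_finsetSum, eval_mul, eval_C, eval_pow, eval_X]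
    rw [eval_eq_sum_range, Finset.mul_sum]
    refine Finset.sum_congr rfl fun i hi => ?_
    have hid : i ≤ d := Nat.lt_succ_iff.mp (Finset.mem_range.mp hi)
    obtain ⟨k, hk⟩ := Nat.exists_eq_add_of_le hid
    rw [hk, Nat.add_sub_cancel_left, mul_pow, pow_add]
    calc q.coeff i * (-s) ^ i * (v : C) ^ k
        = q.coeff i * (-s) ^ i * (v : C) ^ k * ((v : C) * ↑v⁻¹) ^ i := by rw [hvv, one_pow, mul_one]
      _ = (v : C) ^ i * (v : C) ^ k * (q.coeff i * ((-s) ^ i * (↑v⁻¹ : C) ^ i)) := by ring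
  have hW : (v : C) ^ (d + 2) + (s * ((v : C) ^ d * q.eval (-s * ↑v⁻¹)) - (v : C) ^ (d + 1)) = 0 := by
    rw [← hT]
    have := hw
    simpa [W, IsRoot.def] using this
  refine (v.isUnit.pow (d + 2)).mul_right_eq_zero.mp ?_
  generalize q.eval (-s * ↑v⁻¹) = e at hW ⊢
  linear_combination s * hW + (s ^ 2 * e * (v : C) ^ d * ((v : C) * (↑v⁻¹ : C) + 1) - s * (v : C) ^ (d + 1)) * hvv

/-- Hensel's lemma in the form of Newton: if `g(c) ∈ g'(c)² I` then `g` has a root. -/
theorem exists_isRoot_of_eval_eq (g : C[X]) (c s : C) (hs : s ∈ I)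
    (hg : g.eval c = g.derivative.eval c ^ 2 * s) : ∃ x : C, g.IsRoot x := by
  obtain ⟨y, -, hy⟩ := exists_root_quadratic_tail I
    ((taylor c g).divX.divX.comp (Polynomial.C (g.derivative.eval c) * X)) hs
  set d := g.derivative.eval c with hd
  refine ⟨d * y + c, ?_⟩
  rw [IsRoot.def, ← taylor_eval]
  have e : taylor c g = X * (X * (taylor c g).divX.divX + Polynomial.C ((taylor c g).coeff 1)) +
      Polynomial.C ((taylor c g).coeff 0) := by
    conv_lhs => rw [← X_mul_divX_add (taylor c g), ← X_mul_divX_add (taylor c g).divX, coeff_divX]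
  rw [e]
  simp only [eval_add, eval_mul, eval_X, eval_C, eval_comp, taylor_coeff_zero, taylor_coeff_one] at hy ⊢
  rw [hg, ← hd]
  linear_combination d ^ 2 * hy

end Groth.Agent.HenselNewton
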